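import Groth.Agent.QuotShLib.Fppf
import Groth.Agent.GrpField.Spread
import Groth.Agent.LimDesc.FPCancel
import Groth.Prelude.Def_AlgGrp

/-!
A homomorphism is faithfully flat iff it is an fppf epimorphism with flat kernel.
-/

set_option autoImplicit false
set_option backward.isDefEq.respectTransparency false
set_option linter.style.haveILetI false

universe u

noncomputable section

open CategoryTheory CategoryTheory.Limits MonoidalCategory CartesianMonoidalCategory MonObj AlgebraicGeometry

namespace Groth.Agent.HomEpiFppf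

variable {S : Scheme.{u}}

theorem cover_of_epi {G H : Over S} (f : G ⟶ H) [Epi (QuotSh.repMap Scheme.fppfPrecoverage f)] :
    Sieve.generate (Presieve.singleton f) ∈ QuotSh.J Scheme.fppfPrecoverage S H := by
  let J := QuotSh.J Scheme.fppfPrecoverage S
  let PU := yoneda.obj G ⋙ uliftFunctor.{u + 1, u}
  let PM := yoneda.obj H ⋙ uliftFunctor.{u + 1, u}
  let g : PU ⟶ PM := Functor.whiskerRight (yoneda.map f) uliftFunctor.{u + 1, u}
  have h1 : Sheaf.IsLocallySurjective (QuotSh.repMap Scheme.fppfPrecoverage f) :=
    (Sheaf.isLocallySurjective_iff_epi _).2 inferInstance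
  have h2 : Presheaf.IsLocallySurjective J (QuotSh.repMap Scheme.fppfPrecoverage f).hom := h1
  have h3 : g ≫ toSheafify J PM = toSheafify J PU ≫ (QuotSh.repMap Scheme.fppfPrecoverage f).hom :=
    toSheafify_naturality J g
  have h4 : Presheaf.IsLocallySurjective J (g ≫ toSheafify J PM) := by
    rw [h3]; infer_instance
  have h5 : Presheaf.IsLocallySurjective J g :=
    Presheaf.isLocallySurjective_of_isLocallySurjective_of_isLocallyInjective J g (toSheafify J PM)
  refine J.superset_covering ?_ (Presheaf.imageSieve_mem J g (U := Opposite.op H) ⟨𝟙 H⟩)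
  rintro Z k ⟨⟨a⟩, ha⟩
  have ha' : a ≫ f = k ≫ 𝟙 H := congrArg ULift.down ha
  exact ⟨G, a, f, Presieve.singleton.mk, by rw [ha', Category.comp_id]⟩

theorem epi_of_flat {G H : Over S} (f : G ⟶ H) [Flat f.left] [Surjective f.left]
    [LocallyOfFinitePresentation f.left] : Epi (QuotSh.repMap Scheme.fppfPrecoverage f) :=
  QuotShLib.epi_repMap Scheme.fppfPrecoverage
    (QuotShLib.isQuotient_fppf (q := f) (s := pullback.fst f f) (t := pullback.snd f f)
      (IsPullback.of_hasPullback f f))

theorem flat_surjective_iff {G H N : Over S} [GrpObj G] [GrpObj H] (f : G ⟶ H) [IsMonHom f]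
    [LocallyOfFinitePresentation G.hom] [LocallyOfFinitePresentation H.hom]
    (i : N ⟶ G) (hi : AlgGrp.IsKernel i f) :
    (Flat f.left ∧ Surjective f.left) ↔ (Epi (QuotSh.repMap Scheme.fppfPrecoverage f) ∧ Flat N.hom) := by
  haveI : LocallyOfFinitePresentation f.left := by
    haveI : LocallyOfFinitePresentation (f.left ≫ H.hom) := by rw [Over.w f]; infer_instance
    exact LimDesc.lfp_of_comp f.left H.hom
  have hN : IsPullback i.left N.hom f.left (η[H] : 𝟙_ (Over S) ⟶ H).left := by
    simpa using IsPullback.map (Over.forget S) hi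
  haveI : LocallyOfFinitePresentation N.hom := MorphismProperty.of_isPullback hN inferInstance
  constructor
  · rintro ⟨_, _⟩
    exact ⟨epi_of_flat f, MorphismProperty.of_isPullback hN inferInstance⟩
  · rintro ⟨_, _⟩
    let u : 𝟙_ (Over S) ⟶ N := hi.lift η[G] (𝟙 _) (by simp)
    haveI : Surjective N.hom := ⟨fun x => ⟨u.left x, by
      rw [← Scheme.Hom.comp_apply, Over.w u]
      rfl⟩⟩
    have h0 : IsPullback (snd G N) (fst G N) (toUnit N) (toUnit G) :=
      (IsPullback.of_is_product' (tensorProductIsBinaryProduct G N) isTerminalTensorUnit).flip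
    have h1 := GrpField.isPullback_translate f (h0.paste_horiz hi) (𝟙 G)
    have ha : (toUnit G ≫ η[H]) * (𝟙 G ≫ f) = f := by
      rw [Category.id_comp]
      exact one_mul f
    rw [ha] at h1
    have hkp : IsKernelPair f (fst G N) ((snd G N ≫ i) * (fst G N ≫ 𝟙 G)) := h1.flip
    have h2 : IsPullback (snd G N).left (fst G N).left N.hom G.hom := by
      simpa using IsPullback.map (Over.forget S) h0
    haveI : Flat (fst G N).left := MorphismProperty.of_isPullback h2 inferInstance
    haveI : Surjective (fst G N).left := MorphismProperty.of_isPullback h2 inferInstance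
    haveI : LocallyOfFinitePresentation (fst G N).left := MorphismProperty.of_isPullback h2 inferInstance
    haveI : Scheme.fppfPrecoverage.{u}.IsStableUnderComposition := inferInstance
    obtain ⟨P, hP, hl⟩ := QuotShLib.exists_lifts (cover_of_epi f)
    obtain ⟨Z, g, l, ⟨h3, h4⟩, h5, h6⟩ :=
      QuotShLib.exists_single_lift (W := @Flat ⊓ @LocallyOfFinitePresentation) hP hl
    haveI : Flat g := h3
    haveI : LocallyOfFinitePresentation g := h4
    obtain ⟨h7, h8, -⟩ := QuotShLib.fppf_of_lift hkp g l h6
    exact ⟨h7, h8⟩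

end Groth.Agent.HomEpiFppf
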